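import Cfsg.Agent.Lib.BrauerSuzuki.ZStar
import Cfsg.Prelude.Def_CaseTheorems
import Cfsg.Prelude.Def_IsolatedElements

/-!
An isolated involution: its centraliser and the odd core generate the group.
-/

set_option autoImplicit false

namespace Cfsg.Agent.McLTwoA8

open Cfsg

universe u

/-- If an involution is isolated, its centraliser and the odd core generate the group. -/
theorem sup_oddCore_of_isolated {G : Type u} [Group G] [Finite G] (t : G) (ht : orderOf t = 2)
    (h : Cfsg.IsIsolated t) : Subgroup.centralizer ({t} : Set G) ⊔ Cfsg.oddCore G = ⊤ := by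
  haveI : Fact (Nat.Prime 2) := ⟨Nat.prime_two⟩
  have hz := Cfsg.Agent.BrauerSuzuki.zStar G t ht h
  have hO : (pPrimeCore 2 G).Normal := Cfsg.Agent.FittingCores.pPrimeCore_normal 2
  have hco : (Nat.card (pPrimeCore 2 G)).Coprime 2 := Cfsg.Agent.FittingCores.pPrimeCore_coprime (G := G) 2
  have htt : t * t = 1 := by rw [← pow_two, ← ht, pow_orderOf_eq_one]
  refine eq_top_iff.2 fun g _ => ?_
  obtain ⟨n, hn, hn0⟩ : ∃ n ∈ pPrimeCore 2 G, n = g * t * g⁻¹ * t⁻¹ := ⟨_, hz g, rfl⟩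
  have hgt : g * t * g⁻¹ = n * t := by rw [hn0, inv_mul_cancel_right]
  have hinv : t * n * t⁻¹ = n⁻¹ := by
    have hsq : n * t * (n * t) = 1 := by
      rw [← hgt, show g * t * g⁻¹ * (g * t * g⁻¹) = g * (t * t) * g⁻¹ by group, htt, mul_one, mul_inv_cancel]
    rw [inv_eq_of_mul_eq_one_left htt]
    exact eq_inv_of_mul_eq_one_left (by rw [← mul_eq_one_comm, ← hsq]; group)
  -- a square root of `n` in the odd core
  obtain ⟨k, hk, hkk, hkt⟩ : ∃ k ∈ pPrimeCore 2 G, k * k = n ∧ t * k * t⁻¹ = k⁻¹ := by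
    refine ⟨n ^ ((Nat.card (pPrimeCore 2 G) + 1) / 2), pow_mem hn _, ?_, ?_⟩
    · have hodd : Odd (Nat.card (pPrimeCore 2 G)) :=
        Nat.coprime_two_right.1 hco
      have h1 : n ^ Nat.card (pPrimeCore 2 G) = 1 := by
        have := congrArg Subtype.val (pow_card_eq_one' (x := (⟨n, hn⟩ : pPrimeCore 2 G)))
        rwa [Subgroup.coe_pow, Subgroup.coe_one] at this
      rw [← pow_add, ← two_mul, Nat.mul_div_cancel' (even_iff_two_dvd.1 hodd.add_one), pow_succ, h1, one_mul]
    · rw [← conj_pow, hinv, inv_pow]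
  have hc : k⁻¹ * g ∈ Subgroup.centralizer ({t} : Set G) := Subgroup.mem_centralizer_singleton_iff.2 (by
    have h1 : k * t * k⁻¹ = n * t := by
      rw [← hkk, mul_assoc, show t * k⁻¹ = t * k⁻¹ * t⁻¹ * t by group, ← hkt]
      have : t * (t * k * t⁻¹) * t⁻¹ = k := by
        rw [show t * (t * k * t⁻¹) * t⁻¹ = (t * t) * k * (t * t)⁻¹ by group, htt, inv_one, one_mul, mul_one]
      rw [this]
      group
    calc k⁻¹ * g * t = k⁻¹ * (g * t * g⁻¹) * g := by group
      _ = k⁻¹ * (n * t) * g := by rw [hgt]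
      _ = k⁻¹ * (k * t * k⁻¹) * g := by rw [h1]
      _ = t * (k⁻¹ * g) := by group)
  have : k * (k⁻¹ * g) ∈ Subgroup.centralizer ({t} : Set G) ⊔ Cfsg.oddCore G :=
    mul_mem (Subgroup.mem_sup_right hk) (Subgroup.mem_sup_left hc)
  rwa [mul_inv_cancel_left] at this

end Cfsg.Agent.McLTwoA8
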