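import Cfsg.Agent.Lib.Compute.CosetBound

/-!
A coset enumeration whose subgroup maps injectively shows that words true in a model are true in the group.
-/

set_option autoImplicit false

namespace Cfsg.Agent.McLTwoA8

open Cfsg.Agent.CosetCert

/-- A word fixing the base coset that is trivial in the model is trivial in the group. -/
theorem word_kill {P : Params} {G M : Type*} [Group G] [Group M] {gen : ℕ → G} {m : ℕ → M}
    (hinvG : ∀ x, gen x * gen x = 1) (hinvM : ∀ x, m x * m x = 1) (hout : ∀ x, P.k ≤ x → gen x = 1 ∧ m x = 1)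
    {base : List (List ℕ)} (hbase : ∀ w ∈ base, wprod gen w = 1 ∧ wprod m w = 1) {hints : List (ℕ × ℕ × Bool)}
    (hrots : rotsOK base P.rots.entries hints = true) (H : Subgroup (G × M))
    (hH : ∀ p ∈ H, p.2 = 1 → p.1 = 1) (hsubs : ∀ w ∈ P.subs, (wprod gen w, wprod m w) ∈ H)
    {n : ℕ} {tree : List ℕ} {phases : List Phase} (hcert : checkCert P n tree phases = true)
    (htab : tableOK P n = true) (hn : 0 < n) {w : List ℕ} (hw : (w.all fun x => Nat.blt x P.k) = true)
    (h0 : tact P w 0 = 0) (hm : wprod m w = 1) : wprod gen w = 1 := by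
  set pr : ℕ → G × M := fun x => (gen x, m x) with hpr
  set F := Subgroup.closure (pr '' {x | x < P.k}) with hF
  have hmem : ∀ x, pr x ∈ F := fun x => by
    by_cases hx : x < P.k
    · exact Subgroup.subset_closure ⟨x, hx, rfl⟩
    · rw [hpr]
      show (gen x, m x) ∈ F
      rw [(hout x (by omega)).1, (hout x (by omega)).2]
      exact one_mem F
  let gF : ℕ → F := fun x => ⟨pr x, hmem x⟩
  have hval : ∀ v : List ℕ, ((wprod gF v : F) : G × M) = (wprod gen v, wprod m v) := by
    intro v
    induction v with
    | nil => rfl
    | cons a v ih =>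
      have ih' : (((List.map gF v).prod : F) : G × M) = ((List.map gen v).prod, (List.map m v).prod) := ih
      show ((gF a * (List.map gF v).prod : F) : G × M) = (gen a * (List.map gen v).prod, m a * (List.map m v).prod)
      rw [Subgroup.coe_mul, ih']
      rfl
  have hgen : Subgroup.closure (gF '' {x | x < P.k}) = ⊤ := by
    refine Subgroup.map_injective F.subtype_injective ?_
    rw [MonoidHom.map_closure, ← Set.image_comp, show F.subtype ∘ gF = pr from rfl, ← MonoidHom.range_eq_map,
      Subgroup.range_subtype]
  obtain ⟨-, -, h⟩ := index_bound (gen := gF) (fun x => Subtype.ext (Prod.ext (hinvG x) (hinvM x))) hgen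
    (fun v hv => Subtype.ext ((hval v).trans (by rw [(hbase v hv).1, (hbase v hv).2]; rfl))) hrots
    (H := H.comap F.subtype) (fun v hv => by
      show ((wprod gF v : F) : G × M) ∈ H
      rw [hval]; exact hsubs v hv) hcert htab hn
  have := h w hw h0
  rw [Subgroup.mem_comap, show F.subtype (wprod gF w) = (wprod gen w, wprod m w) from hval w] at this
  exact hH _ this hm

end Cfsg.Agent.McLTwoA8
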